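import Cfsg.Agent.LargeFischer28.Group
import Cfsg.Agent.LargeFischer85.Frame
import Cfsg.Agent.LargeFischer85.Orbits
import Cfsg.Agent.LargeFischer88.Conjugates
import Cfsg.Agent.LargeFischer64.Pair
import Cfsg.Agent.ExtraspecialTwo.Rank

/-!
The model of `H/Q` in a group of large Fischer type: semilinearity, an antilinear element, and the
normalisation of the orbit class.
-/

set_option autoImplicit false

namespace CfsgLib.LargeFischer28

open Cfsg CfsgLib.LargeFischer85

/-- The columns of the map moving the class `cl` to zero. -/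
def shiftC (cl : ZMod 3) : ℕ := [11151733894906779683522195341810241573494785, 11151733894906779683522195341810241573490691, 11151733894906779683522195341810241573498882].getD cl.val 0

/-- The columns of its inverse. -/
def shiftD (cl : ZMod 3) : ℕ := [11151733894906779683522195341810241573494785, 11151733894906779683522195341810241573498882, 11151733894906779683522195341810241573490691].getD cl.val 0

/-- The first orbit of class one as a set of bits. -/
def oneN1 : ℕ := 0x248048208240000048208240248000008240248048200000000000000000000148208240248000008240248048200000248048208240000000000000000000018240248048200000248048208240000048208240248000000000000000000001000000000000000100000000000000010000000000000001000100010001111e482082402480000082402480482000002480482082400000000000000000000182402480482000002480482082400000482082402480000000000000000000012480482082400000482082402480000082402480482000000000000000000001000000000000000100000000000000010000000000000001000100010001111e824024804820000024804820824000004820824024800000000000000000000124804820824000004820824024800000824024804820000000000000000000014820824024800000824024804820000024804820824000000000000000000001000000000000000100000000000000010000000000000001000100010001111e000000000000000100000000000000010000000000000001000100010001111e000000000000000100000000000000010000000000000001000100010001111e000000000000000100000000000000010000000000000001000100010001111e000100010001111e000100010001111e000100010001111e111e111e111eeee0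

/-- The first orbit of class two as a set of bits. -/
def oneN2 : ℕ := 0x482082402480000082402480482000002480482082400000000000000000000182402480482000002480482082400000482082402480000000000000000000012480482082400000482082402480000082402480482000000000000000000001000000000000000100000000000000010000000000000001000100010001111e824024804820000024804820824000004820824024800000000000000000000124804820824000004820824024800000824024804820000000000000000000014820824024800000824024804820000024804820824000000000000000000001000000000000000100000000000000010000000000000001000100010001111e248048208240000048208240248000008240248048200000000000000000000148208240248000008240248048200000248048208240000000000000000000018240248048200000248048208240000048208240248000000000000000000001000000000000000100000000000000010000000000000001000100010001111e000000000000000100000000000000010000000000000001000100010001111e000000000000000100000000000000010000000000000001000100010001111e000000000000000100000000000000010000000000000001000100010001111e000100010001111e000100010001111e000100010001111e111e111e111eeee0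

/-- The first orbit of a class as a set of bits. -/
def oneK (cl : ZMod 3) : ℕ := [oneN, oneN1, oneN2].getD cl.val 0

/-- The sum of the digits shifted by two. -/
def digSum (n : ℕ) : ℕ :=
  dig n 0 + 2 + (dig n 1 + 2) + (dig n 2 + 2) + (dig n 3 + 2) + (dig n 4 + 2) + (dig n 5 + 2)

theorem cls_eq (n : W) : cls n = (digSum n.val : ZMod 3) := by
  simp only [cls, digSum, Fin.sum_univ_six]
  push_cast
  rfl

/-- A test of membership in the first orbit by the digit sum. -/
def oneT (cl : ℕ) (n : W) : Bool := wt n == 2 || (wt n == 6 && digSum n.val % 3 == cl)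

theorem oneT_iff (cl : ZMod 3) (n : W) : oneT cl.val n = true ↔ inOne cl n := by
  simp only [oneT, inOne, Bool.or_eq_true, Bool.and_eq_true, beq_iff_eq, cls_eq,
    ← ZMod.val_natCast, (ZMod.val_injective 3).eq_iff]

theorem c_mask1 : chk (liftP fun n => oneN1.testBit n.val == oneT 1 n) 12 0 = true := by
  decide +kernel

theorem c_mask2 : chk (liftP fun n => oneN2.testBit n.val == oneT 2 n) 12 0 = true := by
  decide +kernel

theorem oneK_bit (cl : ZMod 3) (n : W) : (oneK cl).testBit n.val = decide (inOne cl n) := by
  have hcl : ∀ c : ZMod 3, c = 0 ∨ c = 1 ∨ c = 2 := by decide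
  have h1 := forall_of_chk _ c_mask1 n
  have h2 := forall_of_chk _ c_mask2 n
  simp only [beq_iff_eq] at h1 h2
  rcases hcl cl with rfl | rfl | rfl
  · exact one_bit n
  · rw [Bool.eq_iff_iff, decide_eq_true_iff, ← oneT_iff, ← Bool.eq_iff_iff]
    exact h1
  · rw [Bool.eq_iff_iff, decide_eq_true_iff, ← oneT_iff, ← Bool.eq_iff_iff]
    exact h2

theorem c_shift : ∀ cl : ZMod 3, (invB (shiftC cl) (shiftD cl) && linB (shiftC cl) &&
    chkA (shiftC cl) (fun n v => singN.testBit n == singN.testBit v &&
      (oneK cl).testBit n == oneN.testBit v) 12 0 0) = true := by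
  decide +kernel

/-- The normalising permutation. -/
theorem exists_shift (cl : ZMod 3) : ∃ τ : Equiv.Perm W, IsAdd τ ∧ (∀ n, sing (τ n) ↔ sing n) ∧
    (∀ n, inOne 0 (τ n) ↔ inOne cl n) ∧ ∀ n, τ (om n) = om (τ n) := by
  have h := c_shift cl
  simp only [Bool.and_eq_true] at h
  obtain ⟨⟨hi, hl⟩, hm⟩ := h
  have hb : ∀ n, (sing (app (shiftC cl) n) ↔ sing n) ∧
      (inOne 0 (app (shiftC cl) n) ↔ inOne cl n) := fun n => by
    have := forall_of_chkA _ _ hm n
    simp only [Bool.and_eq_true, beq_iff_eq, sing_bit, one_bit, oneK_bit, decide_eq_decide] at this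
    exact ⟨this.1.symm, this.2.symm⟩
  exact ⟨⟨app (shiftC cl), app (shiftD cl), fun n => (app_app_bas hi n).2,
      fun n => (app_app_bas hi n).1⟩,
    isAdd_app _, fun n => (hb n).1, fun n => (hb n).2, isLinMap_of_linB hl⟩

variable {G : Type*} [Group G] [Finite G] {z : G}
  {Q : Subgroup (Subgroup.centralizer ({z} : Set G))} [Q.Normal] {q : V → ZMod 2} {pr : ↥Q → V}
  {act : (↥(Subgroup.centralizer ({z} : Set G)) ⧸ Q) →* Equiv.Perm V}
  {Mb Cb : Subgroup (↥(Subgroup.centralizer ({z} : Set G)) ⧸ Q)} {φ : Fin 4096 ≃ V} {cl : ZMod 3}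

/-- The stabiliser of the standard vector has the pair structure. -/
theorem exists_pairData (hF : IsOfLargeFischerTypeAt z Q) (hA : IsAction z Q q pr act)
    (hfr : IsFrame q act Mb Cb φ) (hk : IsOrbitClass (Mb.map (frameHom φ act)) cl) :
    ∃ E, LargeFischer64.PairData φ act E := by
  obtain ⟨g, ⟨hq, hgQ⟩, hne⟩ := hF.1.2.2.2.2
  obtain ⟨b, hb⟩ := hA.pr_surj (φ LargeFischer64.n0)
  obtain ⟨h, hh⟩ := LargeFischer88.exists_conj_of_inTwo hF hA hfr hk ⟨⟨g * z * g⁻¹, hq⟩, hgQ⟩ b
    (LargeFischer88.conj_inTwo hF hA hfr hk _ (isConj_iff.2 ⟨g, rfl⟩) hne)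
    (by rw [hb, Equiv.symm_apply_apply]; exact LargeFischer64.inTwo_n0 cl)
  set s : G := ((b : Subgroup.centralizer ({z} : Set G)) : G) with hs
  have hg' : ((h : G) * g) * z * ((h : G) * g)⁻¹ = s := by
    rw [hs, ← hh]
    simp only [Subgroup.coe_mul, InvMemClass.coe_inv]
    group
  have hp0 : pr b ≠ 0 := by
    rw [hb, ← hfr.map_zero]
    exact fun e => absurd (φ.injective e) (by decide)
  have hs1 : s ≠ z := fun e => hp0 ((hA.pr_zero b).2 (Or.inr e))
  obtain ⟨-, hdata⟩ := LargeFischer88.conj_data hF hA hfr hk s b.1.2 b.2 hs1 _ hg'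
  obtain ⟨-, -, hEX, hnorm, hEe, hEc, hn, ⟨iso⟩⟩ := hdata _ _ rfl rfl
  set X := ((Subgroup.centralizer ({z} : Set G) ⊓ Subgroup.centralizer ({s} : Set G)).subgroupOf
    (Subgroup.centralizer ({z} : Set G))).map (QuotientGroup.mk' Q)
  set E := ((((Q.map (Subgroup.centralizer ({z} : Set G)).subtype).map
    (MulAut.conj ((h : G) * g)).toMonoidHom) ⊓
      Subgroup.centralizer ({z} : Set G)).subgroupOf (Subgroup.centralizer ({z} : Set G))).map
        (QuotientGroup.mk' Q)
  have hX : X = LargeFischer64.stabN φ act := by
    ext a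
    rw [LargeFischer64.mem_stabN, frameHom_apply, ← hb, Equiv.symm_apply_eq, ← hb]
    exact mem_stabilizer_iff hF hA b hp0 a
  have hsq : ∀ a ∈ E, a * a = 1 := fun a ha => by
    rw [← sq]; exact hEe.2 a ha
  have hcomm : ∀ a ∈ E, ∀ c ∈ E, a * c = c * a := fun a ha c hc => by
    have h1 := hsq _ (E.mul_mem ha hc)
    rw [mul_eq_one_iff_eq_inv, mul_inv_rev, inv_eq_of_mul_eq_one_right (hsq a ha),
      inv_eq_of_mul_eq_one_right (hsq c hc)] at h1
    exact h1
  refine ⟨E, ?_⟩
  refine ⟨hEX.trans hX.le, fun x hx a ha => hnorm x (hX.ge hx) a ha, hcomm, hsq, hEc, ?_⟩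
  rw [← hX]
  refine ⟨iso.toMonoidHom.comp (QuotientGroup.mk' (E.subgroupOf X)),
    iso.surjective.comp (QuotientGroup.mk'_surjective _), ?_⟩
  ext a
  show iso ((a : ↥X ⧸ E.subgroupOf X)) = 1 ↔ _
  rw [iso.map_eq_one_iff, QuotientGroup.eq_one_iff]

/-- The model from the hypothesis, with the frame it comes from. -/
theorem exists_model_frame (hF : IsOfLargeFischerTypeAt z Q) :
    ∃ (pr' : ↥Q → W) (act' : (↥(Subgroup.centralizer ({z} : Set G)) ⧸ Q) →* Equiv.Perm W),
      Model z Q pr' act' ∧ ∃ (q : V → ZMod 2) (pr : ↥Q → V)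
        (act : (↥(Subgroup.centralizer ({z} : Set G)) ⧸ Q) →* Equiv.Perm V)
        (Mb Cb : Subgroup (↥(Subgroup.centralizer ({z} : Set G)) ⧸ Q)) (φ : Fin 4096 ≃ V)
        (cl : ZMod 3), IsAction z Q q pr act ∧ IsFrame q act Mb Cb φ ∧
        IsOrbitClass (Mb.map (frameHom φ act)) cl ∧
        ∀ a, inOne 0 (pr' a) ↔ inOne cl (φ.symm (pr a)) := by
  classical
  obtain ⟨q, pr, act, hA⟩ := exists_action hF
  obtain ⟨Mb, Cb, φ, hfr⟩ := exists_frame hF hA
  obtain ⟨cl, hk⟩ := exists_orbit_class hfr.group
  have hctx : LargeFischer64.Ctx q act Mb Cb φ cl := ⟨hfr, hA.act_add, hA.act_q, hA.act_inj, hk⟩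
  obtain ⟨E, hP⟩ := exists_pairData hF hA hfr hk
  obtain ⟨c, hcC, hc, hc1, hcz⟩ := hctx.scalar'
  obtain ⟨τ, hτa, hτs, hτo, hτl⟩ := exists_shift cl
  have hτ0 : τ 0 = 0 := hτa.map_zero
  let pr' : ↥Q → W := fun a => τ (φ.symm (pr a))
  let F := frameHom φ act
  let act' : (↥(Subgroup.centralizer ({z} : Set G)) ⧸ Q) →* Equiv.Perm W :=
    (MulAut.conj τ).toMonoidHom.comp F
  have hact : ∀ a n, act' a (τ n) = τ (F a n) := fun a n => by
    simp [act', MulAut.conj_apply]
  have hinv : ∀ n, ∃ m, n = τ m := fun n => ⟨τ.symm n, (τ.apply_symm_apply n).symm⟩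
  have hsym : ∀ v w, φ.symm (v + w) = vadd (φ.symm v) (φ.symm w) := fun v w =>
    φ.injective (by simp [hfr.map_vadd])
  have hsym0 : φ.symm 0 = 0 := φ.injective (by simp [hfr.map_zero])
  obtain ⟨-, hFit, hE, hcard, -⟩ := id hF.1
  refine ⟨pr', act', ?_, q, pr, act, Mb, Cb, φ, cl, hA, hfr, hk, fun a => hτo _⟩
  refine ⟨hF.1.1, ?_, fun a b => by simp only [pr', hA.pr_mul, hsym, hτa _ _],
    fun a => ?_, fun v => ?_, fun a => ?_, fun A hA2 => ?_, ?_, fun h a b hb => ?_, fun a => ?_, ?_, ?_⟩
  · exact (LargeFischer85.coe_mem_map.1 ((setting hF).z_mem))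
  · rw [← hA.pr_zero]
    exact ⟨fun e => φ.symm.injective ((τ.injective (e.trans hτ0.symm)).trans hsym0.symm),
      fun e => by simp only [pr', e, hsym0, hτ0]⟩
  · obtain ⟨m, rfl⟩ := hinv v
    obtain ⟨a, ha⟩ := hA.pr_surj (φ m)
    exact ⟨a, by simp only [pr', ha, Equiv.symm_apply_apply]⟩
  · rw [hτs, hfr.sing_iff, Equiv.apply_symm_apply, hA.pr_sq]
  · obtain ⟨n, w, π, hπ, -, hn⟩ := ExtraspecialTwo.exists_coord hE
    obtain rfl : n = 6 := by
      have := Nat.pow_right_injective (le_refl 2) (hcard.symm.trans hn)
      omega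
    exact (hπ.card_le A hA2).1
  · exact (MulAut.conj τ).injective.comp hctx.inj
  · have := hA.act_pr h a b hb
    simp only [pr']
    rw [hact]
    simp only [F, frameHom_apply, Equiv.apply_symm_apply, this]
  · refine ⟨fun x y => ?_, fun x => ?_, fun x => ?_, ?_⟩
    · obtain ⟨x, rfl⟩ := hinv x
      obtain ⟨y, rfl⟩ := hinv y
      rw [← hτa, hact, hact, hact, hctx.map_vadd, hτa]
    · obtain ⟨x, rfl⟩ := hinv x
      rw [hact, hτs, hτs]
      exact hctx.map_sing a x
    · obtain ⟨x, rfl⟩ := hinv x
      rw [hact, hτo, hτo]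
      exact hctx.map_one' a x
    · have hmem : a * c * a⁻¹ ∈ Subgroup.zpowers c := by
        rw [hcz]; exact hfr.normal_Cb.conj_mem c hcC a
      have h3 : c ^ 3 = 1 := by
        rw [← hfr.card_Cb, ← hcz, Nat.card_zpowers]
        exact pow_orderOf_eq_one c
      obtain ⟨i, hi⟩ := Subgroup.mem_zpowers_iff.1 hmem
      have hi' : c ^ i = c ^ (i % 3) := by
        conv_lhs => rw [← Int.mul_ediv_add_emod i 3, zpow_add, zpow_mul,
          show c ^ (3 : ℤ) = 1 by exact_mod_cast h3, one_zpow, one_mul]
      rw [hi'] at hi
      rcases (show i % 3 = 0 ∨ i % 3 = 1 ∨ i % 3 = 2 by omega) with e | e | e <;> rw [e] at hi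
      · exact absurd (by simpa [eq_comm, mul_inv_eq_one] using hi) hc1
      · refine Or.inl fun x => ?_
        obtain ⟨x, rfl⟩ := hinv x
        have hca : a * c = c * a := by
          rw [zpow_one] at hi
          exact mul_inv_eq_iff_eq_mul.1 hi.symm
        rw [← hτl, hact, hact, hctx.map_om hc hca, hτl]
      · refine Or.inr fun x => ?_
        obtain ⟨x, rfl⟩ := hinv x
        have hca : a * c = c * c * a := by
          rw [show c ^ (2 : ℤ) = c * c by rw [← pow_two]; norm_cast] at hi
          exact mul_inv_eq_iff_eq_mul.1 hi.symm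
        have e2 : F a (om x) = om (om (F a x)) := by
          show frameHom φ act a _ = _
          rw [← hc x, ← Equiv.Perm.mul_apply, ← map_mul, hca, map_mul, map_mul,
            Equiv.Perm.mul_apply, Equiv.Perm.mul_apply, hc, hc]
        rw [← hτl, hact, hact, e2, hτl, hτl]
  · exact hctx.card_K
  · by_contra hall
    push Not at hall
    refine hctx.not_central hP hc fun a => hctx.inj (Equiv.ext fun n => ?_)
    have := (hall a).2 (τ n)
    rw [← hτl, hact, hact, ← hτl] at this
    rw [map_mul, map_mul, Equiv.Perm.mul_apply, Equiv.Perm.mul_apply, hc, hc]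
    exact τ.injective this

/-- The model from the hypothesis. -/
theorem exists_model (hF : IsOfLargeFischerTypeAt z Q) :
    ∃ (pr : ↥Q → W) (act : (↥(Subgroup.centralizer ({z} : Set G)) ⧸ Q) →* Equiv.Perm W),
      Model z Q pr act := by
  obtain ⟨pr', act', hM, -⟩ := exists_model_frame hF
  exact ⟨pr', act', hM⟩

end CfsgLib.LargeFischer28
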